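import Groth.Agent.Lib.Helper39.IntCl.HeightOne

/-!
# helper39: a non-integral element of the ideal transform `D_𝔫(D)` of a Noetherian domain produces a
finite birational integral extension with a prime of height `≤ 1` over the maximal ideal `𝔫`
-/

set_option autoImplicit false
universe u
open Polynomial

namespace Groth.Agent.Lib.Helper39.PunctInt

open Groth.Agent.Lib.Helper39.IntCl

/-- incomparability: heights do not go up along integral extensions. -/
theorem le_height_comap_of_isIntegral {R S : Type*} [CommRing R] [CommRing S] [Algebra R S]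
    [Algebra.IsIntegral R S] (n : ℕ) : ∀ (Q : Ideal S) [Q.IsPrime], (n : ℕ∞) ≤ Q.height →
      (n : ℕ∞) ≤ (Q.comap (algebraMap R S)).height := by
  induction n with
  | zero => intro Q _ _; simp
  | succ n ih =>
    intro Q _ hQ
    have h1 : ¬ Q.height ≤ n := by
      intro h
      have h2 := le_trans hQ h
      have h3 : n + 1 ≤ n := by exact_mod_cast h2
      omega
    rw [Ideal.height_le_iff] at h1
    push Not at h1
    obtain ⟨Q', hQ'p, hlt, hQ'⟩ := h1
    have h4 := ih Q' hQ'
    have hlt' := Ideal.IsIntegral.comap_lt_comap (R := R) hlt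
    have h5 := Ideal.height_add_one_le_of_lt_of_isPrime hlt'
    push_cast
    exact le_trans (by gcongr) h5

theorem exists_finite_subalgebra_prime {D : Type u} [CommRing D] [IsDomain D] [IsNoetherianRing D]
    {L : Type u} [Field L] [Algebra D L] [IsFractionRing D L]
    (𝔫 : Ideal D) [h𝔫 : 𝔫.IsMaximal] (y : L) (t : ℕ)
    (hy : ∀ b ∈ 𝔫 ^ t, ∃ a : D, algebraMap D L a = algebraMap D L b * y)
    (hni : ¬ IsIntegral D y) :
    ∃ r₁ r₂ : L, IsIntegral D r₁ ∧ IsIntegral D r₂ ∧
      ∃ (q : Ideal (Algebra.adjoin D {r₁, r₂})) (_ : q.IsPrime),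
        q.comap (algebraMap D (Algebra.adjoin D {r₁, r₂})) = 𝔫 ∧ q.height ≤ 1 := by
  classical
  have hinjL : Function.Injective (algebraMap D L) := IsFractionRing.injective D L
  have hy0 : y ≠ 0 := by
    rintro rfl
    exact hni isIntegral_zero
  set z := y⁻¹ with hz
  have hzy : z * y = 1 := inv_mul_cancel₀ hy0
  set B := Algebra.adjoin D {z} with hB
  set zB : B := ⟨z, Algebra.self_mem_adjoin_singleton D z⟩ with hzB
  have hφ := aeval_adjoin_surjective (A := D) z
  haveI : IsNoetherianRing B :=
    isNoetherianRing_of_surjective D[X] B (aeval (R := D) zB : D[X] →+* B) hφ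
  have hyB : y ∉ B := by
    intro hmem
    apply hni
    have : IsIntegral (Algebra.adjoin D {z}) y := by
      have : y = algebraMap B L ⟨y, hmem⟩ := rfl
      rw [this]
      exact isIntegral_algebraMap
    exact isIntegral_of_isIntegral_adjoin_of_mul_eq_one y z hzy this
  have hunit : ¬ IsUnit zB := by
    intro hu
    obtain ⟨u, hu⟩ := hu.exists_right_inv
    apply hyB
    have h1 : z * (u : L) = 1 := by
      have := congrArg Subtype.val hu
      simpa using this
    have : (u : L) = y := by
      have h2 : (u : L) = z⁻¹ := eq_inv_of_mul_eq_one_right h1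
      rw [h2, hz, inv_inv]
    rw [← this]
    exact u.2
  have hne : Ideal.span {zB} ≠ ⊤ := by
    rwa [Ne, Ideal.span_singleton_eq_top]
  obtain ⟨⟨P, hPmin⟩⟩ := Ideal.nonempty_minimalPrimes hne
  haveI hPprime : P.IsPrime := hPmin.1.1
  have hzP : zB ∈ P := hPmin.1.2 (Ideal.mem_span_singleton_self _)
  have hPht : P.height ≤ 1 :=
    Ideal.height_le_one_of_isPrincipal_of_mem_minimalPrimes (Ideal.span {zB}) P hPmin
  have hinjB : Function.Injective (algebraMap D B) := by
    intro a b hab
    exact hinjL (congrArg Subtype.val hab)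
  -- `P ∩ D = 𝔫`
  have hcomap : P.comap (algebraMap D B) = 𝔫 := by
    by_contra hne'
    have hnle : ¬ 𝔫 ≤ P.comap (algebraMap D B) := by
      intro hle
      exact hne' (h𝔫.eq_of_le (Ideal.comap_ne_top _ hPprime.ne_top) hle).symm
    obtain ⟨b₀, hb₀, hb₀P⟩ := SetLike.not_le_iff_exists.1 hnle
    obtain ⟨a, ha⟩ := hy (b₀ ^ t) (Ideal.pow_mem_pow hb₀ t)
    have h1 : algebraMap D B (b₀ ^ t) = algebraMap D B a * zB := by
      apply Subtype.ext
      change algebraMap D L (b₀ ^ t) = algebraMap D L a * z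
      rw [ha, mul_assoc, mul_comm y z, hzy, mul_one]
    have h2 : algebraMap D B (b₀ ^ t) ∈ P := by
      rw [h1]
      exact P.mul_mem_left _ hzP
    have h3 : b₀ ^ t ∈ P.comap (algebraMap D B) := h2
    exact hb₀P ((Ideal.comap_isPrime (algebraMap D B) P).mem_of_pow_mem t h3)
  have h𝔫0 : 𝔫 ≠ ⊥ := by
    intro h0
    have hfield : IsField D := by
      rw [Ring.isField_iff_maximal_bot]
      exact h0 ▸ h𝔫
    have hsurj : Function.Surjective (algebraMap D L) :=
      IsFractionRing.surjective_iff_isField.2 hfield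
    obtain ⟨a, rfl⟩ := hsurj y
    exact hni isIntegral_algebraMap
  obtain ⟨a₀, ha₀𝔫, ha₀⟩ := Submodule.exists_mem_ne_zero_of_ne_bot h𝔫0
  have ha₀P : algebraMap D B a₀ ∈ P := by
    have : a₀ ∈ P.comap (algebraMap D B) := hcomap ▸ ha₀𝔫
    exact this
  obtain ⟨r, hrP, hrint, hrzint⟩ :=
    exists_integral_multiplier hinjB zB hφ P hPht hzP a₀ ha₀ ha₀P
  have hr0 : r ≠ 0 := by
    rintro rfl
    exact hrP P.zero_mem
  have hint₁ : IsIntegral D ((r : B) : L) := hrint.map B.val
  have hint₂ : IsIntegral D ((r : L) * z) := hrzint.map B.val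
  refine ⟨(r : L), (r : L) * z, hint₁, hint₂, ?_⟩
  set C := Algebra.adjoin D {(r : L), (r : L) * z} with hC
  have hCB : C ≤ B := by
    apply Algebra.adjoin_le
    rintro x hx
    rcases hx with rfl | hx
    · exact r.2
    · rw [Set.mem_singleton_iff] at hx
      rw [hx]
      exact (r * zB).2
  let ι : C →ₐ[D] B := Subalgebra.inclusion hCB
  have hιinj : Function.Injective ι := Subalgebra.inclusion_injective hCB
  have hr₁C : (r : L) ∈ C := Algebra.subset_adjoin (Set.mem_insert _ _)
  have hr₂C : (r : L) * z ∈ C := Algebra.subset_adjoin (Set.mem_insert_of_mem _ rfl)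
  let rC : C := ⟨(r : L), hr₁C⟩
  have hιr : ι rC = r := Subtype.ext rfl
  refine ⟨P.comap ι, Ideal.comap_isPrime _ _, ?_, ?_⟩
  · ext a
    rw [Ideal.mem_comap, Ideal.mem_comap, ← hcomap, Ideal.mem_comap, AlgHom.commutes]
  -- the height comparison, through the common localization at `r`
  let T := Localization.Away r
  letI algCT : Algebra C T := ((algebraMap B T).comp ι.toRingHom).toAlgebra
  have halg : ∀ c : C, algebraMap C T c = algebraMap B T (ι c) := fun c => rfl
  have hinjT : Function.Injective (algebraMap B T) :=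
    IsLocalization.injective T (powers_le_nonZeroDivisors_of_noZeroDivisors hr0)
  -- every element of `B` is `c / r^N` with `c ∈ C`
  have hclaim : ∀ β : L, β ∈ B → ∃ N : ℕ, ∃ c : L, c ∈ C ∧ (r : L) ^ N * β = c := by
    intro β hβ
    induction hβ using Algebra.adjoin_induction with
    | mem x hx =>
      rw [Set.mem_singleton_iff] at hx
      subst hx
      exact ⟨1, (r : L) * z, hr₂C, by rw [pow_one]⟩
    | algebraMap d =>
      exact ⟨0, algebraMap D L d, Subalgebra.algebraMap_mem _ d, by rw [pow_zero, one_mul]⟩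
    | add x y _ _ hx hy =>
      obtain ⟨N₁, c₁, hc₁, h₁⟩ := hx
      obtain ⟨N₂, c₂, hc₂, h₂⟩ := hy
      refine ⟨N₁ + N₂, (r : L) ^ N₂ * c₁ + (r : L) ^ N₁ * c₂,
        Subalgebra.add_mem _ (Subalgebra.mul_mem _ (Subalgebra.pow_mem _ hr₁C _) hc₁)
          (Subalgebra.mul_mem _ (Subalgebra.pow_mem _ hr₁C _) hc₂), ?_⟩
      rw [← h₁, ← h₂, pow_add]
      ring
    | mul x y _ _ hx hy =>
      obtain ⟨N₁, c₁, hc₁, h₁⟩ := hx
      obtain ⟨N₂, c₂, hc₂, h₂⟩ := hy
      refine ⟨N₁ + N₂, c₁ * c₂, Subalgebra.mul_mem _ hc₁ hc₂, ?_⟩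
      rw [← h₁, ← h₂, pow_add]
      ring
  haveI hloc : IsLocalization.Away rC T :=
    { map_units := by
        rintro ⟨s, hs⟩
        obtain ⟨n, rfl⟩ := (Submonoid.mem_powers_iff _ _).1 hs
        rw [halg, map_pow, hιr, map_pow]
        exact (IsLocalization.map_units T
          (⟨r, Submonoid.mem_powers r⟩ : Submonoid.powers r)).pow n
      surj := by
        intro τ
        obtain ⟨⟨b, s⟩, hbs⟩ := IsLocalization.surj (Submonoid.powers r) τ
        obtain ⟨n, hn⟩ := (Submonoid.mem_powers_iff _ _).1 s.2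
        obtain ⟨N, c, hcC, hc⟩ := hclaim (b : L) b.2
        refine ⟨(⟨c, hcC⟩, ⟨rC ^ (n + N), Submonoid.pow_mem _ (Submonoid.mem_powers rC) _⟩), ?_⟩
        have h1 : ι ⟨c, hcC⟩ = r ^ N * b := Subtype.ext hc.symm
        have h2 : ι (rC ^ (n + N)) = (s : B) * r ^ N := by rw [map_pow, hιr, pow_add, hn]
        change τ * algebraMap C T (rC ^ (n + N)) = algebraMap C T ⟨c, hcC⟩
        rw [halg, halg, h1, h2, map_mul, ← mul_assoc, hbs, map_mul]
        ring
      exists_of_eq := by
        intro c c' h
        rw [halg, halg] at h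
        exact ⟨1, by rw [hιinj (hinjT h)]⟩ }
  have hdisj : Disjoint ((Submonoid.powers r : Submonoid B) : Set B) (P : Set B) := by
    rw [Set.disjoint_left]
    rintro x hx hxP
    obtain ⟨n, rfl⟩ := (Submonoid.mem_powers_iff _ _).1 hx
    exact hrP (hPprime.mem_of_pow_mem n hxP)
  haveI h𝔓 : (P.map (algebraMap B T)).IsPrime :=
    IsLocalization.isPrime_of_isPrime_disjoint (Submonoid.powers r) T P hPprime hdisj
  have hu1 : (P.map (algebraMap B T)).comap (algebraMap B T) = P :=
    IsLocalization.comap_map_of_isPrime_disjoint (Submonoid.powers r) T hPprime hdisj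
  have hh1 : ((P.map (algebraMap B T)).comap (algebraMap B T)).height =
      (P.map (algebraMap B T)).height :=
    IsLocalization.height_under (Submonoid.powers r) (P.map (algebraMap B T))
  have hh2 : ((P.map (algebraMap B T)).comap (algebraMap C T)).height =
      (P.map (algebraMap B T)).height :=
    IsLocalization.height_under (Submonoid.powers rC) (P.map (algebraMap B T))
  have hu2 : (P.map (algebraMap B T)).comap (algebraMap C T) = P.comap ι := by
    ext c
    rw [Ideal.mem_comap, Ideal.mem_comap, halg, ← Ideal.mem_comap, hu1]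
  rw [← hu2, hh2, ← hh1, hu1]
  exact hPht

end Groth.Agent.Lib.Helper39.PunctInt
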