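import Groth.Agent.Lib.Helper39.PunctInt.Reduced
import Groth.Agent.Lib.Helper39.PunctInt.Domain

/-!
# helper39: elements of the ideal transform `D_m(A)` of a reduced Noetherian local ring are integral
over `A` when every maximal ideal of the normalization has height at least two.
-/

set_option autoImplicit false
universe u
open Polynomial

namespace Groth.Agent.Lib.Helper39.PunctInt

section Aux

variable {A : Type u} [CommRing A] [IsNoetherianRing A] [IsReduced A]

theorem isIntegral_of_lift (p : Ideal A) (hp : p ∈ minimalPrimes A) (v : FractionRing A)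
    (hv : IsIntegral (A ⧸ p) (psi p hp v))
    (hv' : ∀ (p' : Ideal A) (hp' : p' ∈ minimalPrimes A), p' ≠ p → psi p' hp' v = 0) :
    IsIntegral A v := by
  apply isIntegral_of_forall_psi
  intro p' hp'
  by_cases hpe : p = p'
  · subst hpe
    haveI : Algebra.IsIntegral A (A ⧸ p) :=
      Algebra.isIntegral_of_surjective Ideal.Quotient.mk_surjective
    exact isIntegral_trans _ hv
  · rw [hv' p' hp' (Ne.symm hpe)]
    exact isIntegral_zero

theorem mul_lift_eq_zero (p : Ideal A) (hp : p ∈ minimalPrimes A) (w e : FractionRing A)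
    (hw : psi p hp w = 0)
    (he' : ∀ (p' : Ideal A) (hp' : p' ∈ minimalPrimes A), p' ≠ p → psi p' hp' e = 0) :
    w * e = 0 := by
  apply eq_zero_of_forall_psi
  intro p' hp'
  by_cases hpe : p = p'
  · subst hpe
    rw [map_mul, hw, zero_mul]
  · rw [map_mul, he' p' hp' (Ne.symm hpe), mul_zero]

end Aux

variable (A : Type u) [CommRing A] [IsNoetherianRing A] [IsReduced A] [IsLocalRing A]

theorem isIntegral_of_pow_mul_mem
    (hdim : ∀ (m' : Ideal ↥(integralClosure A (FractionRing A))) [m'.IsMaximal],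
      m'.comap (algebraMap A ↥(integralClosure A (FractionRing A))) = IsLocalRing.maximalIdeal A →
        2 ≤ ringKrullDim (Localization.AtPrime m'))
    (y : FractionRing A) (t : ℕ)
    (hy : ∀ b ∈ (IsLocalRing.maximalIdeal A) ^ t, ∃ a : A,
      algebraMap A (FractionRing A) a = algebraMap A (FractionRing A) b * y) :
    IsIntegral A y := by
  classical
  apply isIntegral_of_forall_psi
  intro p hp
  haveI hpp : p.IsPrime := hp.1.1
  haveI : Algebra.IsIntegral A (A ⧸ p) :=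
    Algebra.isIntegral_of_surjective Ideal.Quotient.mk_surjective
  by_contra hni
  have hnotint : ¬ IsIntegral (A ⧸ p) (psi p hp y) := fun h => hni (isIntegral_trans _ h)
  have hple : p ≤ IsLocalRing.maximalIdeal A := IsLocalRing.le_maximalIdeal hpp.ne_top
  haveI h𝔫max : ((IsLocalRing.maximalIdeal A).map (Ideal.Quotient.mk p)).IsMaximal :=
    Ideal.IsMaximal.map_of_surjective_of_ker_le Ideal.Quotient.mk_surjective
      (by rw [Ideal.mk_ker]; exact hple)
  have hy' : ∀ b ∈ ((IsLocalRing.maximalIdeal A).map (Ideal.Quotient.mk p)) ^ t, ∃ a : A ⧸ p,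
      algebraMap (A ⧸ p) (FractionRing (A ⧸ p)) a =
        algebraMap (A ⧸ p) (FractionRing (A ⧸ p)) b * psi p hp y := by
    intro b hb
    rw [← Ideal.map_pow] at hb
    obtain ⟨b₀, hb₀, rfl⟩ :=
      (Ideal.mem_map_iff_of_surjective _ Ideal.Quotient.mk_surjective).1 hb
    obtain ⟨a, ha⟩ := hy b₀ hb₀
    refine ⟨Ideal.Quotient.mk p a, ?_⟩
    rw [← psi_algebraMap, ← psi_algebraMap, ha, map_mul]
  obtain ⟨r₁, r₂, hr₁, hr₂, qb, hqb, hqbcomap, hqbht⟩ :=
    exists_finite_subalgebra_prime ((IsLocalRing.maximalIdeal A).map (Ideal.Quotient.mk p))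
      (psi p hp y) t hy' hnotint
  obtain ⟨v₁, hv₁, hv₁'⟩ := exists_lift p hp r₁
  obtain ⟨v₂, hv₂, hv₂'⟩ := exists_lift p hp r₂
  obtain ⟨e, he, he'⟩ := exists_lift p hp 1
  have hv₁int : IsIntegral A v₁ := isIntegral_of_lift p hp v₁ (hv₁ ▸ hr₁) hv₁'
  have hv₂int : IsIntegral A v₂ := isIntegral_of_lift p hp v₂ (hv₂ ▸ hr₂) hv₂'
  have heint : IsIntegral A e := isIntegral_of_lift p hp e (he ▸ isIntegral_one) he'
  have hv₁C : v₁ ∈ Algebra.adjoin A {v₁, v₂, e} := Algebra.subset_adjoin (Set.mem_insert _ _)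
  have hv₂C : v₂ ∈ Algebra.adjoin A {v₁, v₂, e} :=
    Algebra.subset_adjoin (Set.mem_insert_of_mem _ (Set.mem_insert _ _))
  have heC : e ∈ Algebra.adjoin A {v₁, v₂, e} :=
    Algebra.subset_adjoin (Set.mem_insert_of_mem _ (Set.mem_insert_of_mem _ rfl))
  have hCle : Algebra.adjoin A {v₁, v₂, e} ≤ integralClosure A (FractionRing A) := by
    apply Algebra.adjoin_le
    intro x hx
    rw [Set.mem_insert_iff, Set.mem_insert_iff, Set.mem_singleton_iff] at hx
    rcases hx with hx | hx | hx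
    · rw [hx]; exact hv₁int
    · rw [hx]; exact hv₂int
    · rw [hx]; exact heint
  have hr₁Cb : r₁ ∈ Algebra.adjoin (A ⧸ p) {r₁, r₂} := Algebra.subset_adjoin (Set.mem_insert _ _)
  have hr₂Cb : r₂ ∈ Algebra.adjoin (A ⧸ p) {r₁, r₂} :=
    Algebra.subset_adjoin (Set.mem_insert_of_mem _ rfl)
  have hΨmem : ∀ c : Algebra.adjoin A {v₁, v₂, e},
      ((psi p hp).comp (Algebra.adjoin A {v₁, v₂, e}).val.toRingHom) c ∈
        Algebra.adjoin (A ⧸ p) {r₁, r₂} := by
    rintro ⟨c, hc⟩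
    change psi p hp c ∈ _
    induction hc using Algebra.adjoin_induction with
    | mem x hx =>
      rw [Set.mem_insert_iff, Set.mem_insert_iff, Set.mem_singleton_iff] at hx
      rcases hx with hx | hx | hx
      · rw [hx, hv₁]; exact hr₁Cb
      · rw [hx, hv₂]; exact hr₂Cb
      · rw [hx, he]; exact Subalgebra.one_mem _
    | algebraMap a => rw [psi_algebraMap]; exact Subalgebra.algebraMap_mem _ _
    | add x y _ _ hx hy => rw [map_add]; exact Subalgebra.add_mem _ hx hy
    | mul x y _ _ hx hy => rw [map_mul]; exact Subalgebra.mul_mem _ hx hy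
  let Ψ : Algebra.adjoin A {v₁, v₂, e} →+* Algebra.adjoin (A ⧸ p) {r₁, r₂} :=
    ((psi p hp).comp (Algebra.adjoin A {v₁, v₂, e}).val.toRingHom).codRestrict
      (Algebra.adjoin (A ⧸ p) {r₁, r₂}) hΨmem
  have hΨval : ∀ c : Algebra.adjoin A {v₁, v₂, e}, (Ψ c : FractionRing (A ⧸ p)) = psi p hp c.1 :=
    fun c => rfl
  have hΨsurj : Function.Surjective Ψ := by
    rintro ⟨cb, hcb⟩
    induction hcb using Algebra.adjoin_induction with
    | mem x hx =>
      rw [Set.mem_insert_iff, Set.mem_singleton_iff] at hx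
      rcases hx with hx | hx
      · exact ⟨⟨v₁, hv₁C⟩, Subtype.ext (hv₁.trans hx.symm)⟩
      · exact ⟨⟨v₂, hv₂C⟩, Subtype.ext (hv₂.trans hx.symm)⟩
    | algebraMap ab =>
      obtain ⟨a, rfl⟩ := Ideal.Quotient.mk_surjective ab
      exact ⟨algebraMap A _ a, Subtype.ext (psi_algebraMap p hp a)⟩
    | add x y hx hy ihx ihy =>
      obtain ⟨c₁, h₁⟩ := ihx
      obtain ⟨c₂, h₂⟩ := ihy
      exact ⟨c₁ + c₂, by rw [map_add, h₁, h₂]; rfl⟩
    | mul x y hx hy ihx ihy =>
      obtain ⟨c₁, h₁⟩ := ihx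
      obtain ⟨c₂, h₂⟩ := ihy
      exact ⟨c₁ * c₂, by rw [map_mul, h₁, h₂]; rfl⟩
  haveI hqprime : (qb.comap Ψ).IsPrime := Ideal.comap_isPrime _ _
  have hΨalg : ∀ a : A, Ψ (algebraMap A _ a) =
      algebraMap (A ⧸ p) (Algebra.adjoin (A ⧸ p) {r₁, r₂}) (Ideal.Quotient.mk p a) :=
    fun a => Subtype.ext (psi_algebraMap p hp a)
  have hqA : (qb.comap Ψ).comap (algebraMap A (Algebra.adjoin A {v₁, v₂, e})) =
      IsLocalRing.maximalIdeal A := by
    ext a
    rw [Ideal.mem_comap, Ideal.mem_comap, hΨalg, ← Ideal.mem_comap, hqbcomap,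
      Ideal.mem_quotient_iff_mem hple]
  have hΨe : Ψ ⟨e, heC⟩ = 1 := Subtype.ext he
  have heq : (⟨e, heC⟩ : Algebra.adjoin A {v₁, v₂, e}) ∉ qb.comap Ψ := by
    intro h
    rw [Ideal.mem_comap, hΨe] at h
    exact hqb.ne_top ((Ideal.eq_top_iff_one _).2 h)
  have hker : ∀ (𝔮 : Ideal (Algebra.adjoin A {v₁, v₂, e})), 𝔮.IsPrime → 𝔮 ≤ qb.comap Ψ →
      RingHom.ker Ψ ≤ 𝔮 := by
    intro 𝔮 h𝔮 hle w hw
    have h0 : w * ⟨e, heC⟩ = 0 := by
      apply Subtype.ext
      change w.1 * e = 0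
      apply mul_lift_eq_zero p hp w.1 e _ he'
      have := congrArg Subtype.val ((RingHom.mem_ker).1 hw)
      rw [hΨval] at this
      exact this
    have h1 : w * ⟨e, heC⟩ ∈ 𝔮 := by rw [h0]; exact 𝔮.zero_mem
    rcases h𝔮.mem_or_mem h1 with h | h
    · exact h
    · exact absurd (hle h) heq
  have hcm : ∀ (𝔮 : Ideal (Algebra.adjoin A {v₁, v₂, e})), 𝔮.IsPrime → 𝔮 ≤ qb.comap Ψ →
      (𝔮.map Ψ).comap Ψ = 𝔮 := by
    intro 𝔮 h𝔮 hle
    rw [Ideal.comap_map_of_surjective' Ψ hΨsurj, sup_eq_left]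
    exact hker 𝔮 h𝔮 hle
  have hmapq : (qb.comap Ψ).map Ψ = qb := Ideal.map_comap_of_surjective Ψ hΨsurj qb
  haveI : IsNoetherianRing (Algebra.adjoin (A ⧸ p) {r₁, r₂}) :=
    isNoetherianRing_of_fg ⟨{r₁, r₂}, by simp⟩
  have hqht : (qb.comap Ψ).height ≤ 1 := by
    have h1 : ((1 : ℕ) : ℕ∞) = 1 := Nat.cast_one
    rw [← h1, Ideal.height_le_iff]
    intro q₁ hq₁ hq₁lt
    have h0 : q₁.height ≤ ((0 : ℕ) : ℕ∞) := by
      rw [Ideal.height_le_iff]
      intro q₀ hq₀ hq₀lt
      exfalso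
      have hq₀le : q₀ ≤ qb.comap Ψ := (hq₀lt.trans hq₁lt).le
      haveI hp₁ : (q₁.map Ψ).IsPrime :=
        Ideal.map_isPrime_of_surjective hΨsurj (hker q₁ hq₁ hq₁lt.le)
      haveI hp₀ : (q₀.map Ψ).IsPrime :=
        Ideal.map_isPrime_of_surjective hΨsurj (hker q₀ hq₀ hq₀le)
      have hlt₁ : q₁.map Ψ < qb := by
        refine lt_of_le_of_ne ?_ ?_
        · rw [← hmapq]
          exact Ideal.map_mono hq₁lt.le
        · intro heq'
          have := hcm q₁ hq₁ hq₁lt.le
          rw [heq'] at this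
          exact hq₁lt.ne this.symm
      have hlt₀ : q₀.map Ψ < q₁.map Ψ := by
        refine lt_of_le_of_ne (Ideal.map_mono hq₀lt.le) ?_
        intro heq'
        have h2 := hcm q₀ hq₀ hq₀le
        have h3 := hcm q₁ hq₁ hq₁lt.le
        rw [heq', h3] at h2
        exact hq₀lt.ne h2.symm
      have h4 : (q₁.map Ψ).height < ((1 : ℕ) : ℕ∞) := by
        have := hqbht
        rw [← h1, Ideal.height_le_iff] at this
        exact this _ hp₁ hlt₁
      have h5 := Ideal.height_add_one_le_of_lt_of_isPrime hlt₀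
      have h6 : (1 : ℕ∞) ≤ (q₁.map Ψ).height := le_trans le_add_self h5
      rw [h1] at h4
      exact absurd h6 (not_le.2 h4)
    calc q₁.height ≤ ((0 : ℕ) : ℕ∞) := h0
      _ < ((1 : ℕ) : ℕ∞) := by norm_num
  -- go up to the integral closure
  letI algCA' : Algebra (Algebra.adjoin A {v₁, v₂, e}) ↥(integralClosure A (FractionRing A)) :=
    (Subalgebra.inclusion hCle).toRingHom.toAlgebra
  haveI : IsScalarTower A (Algebra.adjoin A {v₁, v₂, e})
      ↥(integralClosure A (FractionRing A)) :=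
    IsScalarTower.of_algebraMap_eq (fun a => rfl)
  haveI : Algebra.IsIntegral (Algebra.adjoin A {v₁, v₂, e})
      ↥(integralClosure A (FractionRing A)) :=
    Algebra.IsIntegral.tower_top (R := A)
  have hinjC : Function.Injective (algebraMap (Algebra.adjoin A {v₁, v₂, e})
      ↥(integralClosure A (FractionRing A))) := Subalgebra.inclusion_injective hCle
  obtain ⟨m', -, hm'prime, hm'q⟩ := Ideal.exists_ideal_over_prime_of_isIntegral (qb.comap Ψ)
    (⊥ : Ideal ↥(integralClosure A (FractionRing A))) (by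
      intro c hc
      rw [Ideal.mem_comap, Ideal.mem_bot] at hc
      rw [(map_eq_zero_iff _ hinjC).1 hc]
      exact Ideal.zero_mem _)
  have hm'A : m'.comap (algebraMap A ↥(integralClosure A (FractionRing A))) =
      IsLocalRing.maximalIdeal A := by
    rw [IsScalarTower.algebraMap_eq A (Algebra.adjoin A {v₁, v₂, e})
      ↥(integralClosure A (FractionRing A)), ← Ideal.comap_comap, hm'q, hqA]
  haveI hm'max : m'.IsMaximal := by
    apply Ideal.isMaximal_of_isIntegral_of_isMaximal_comap (R := A) m'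
    rw [hm'A]
    exact IsLocalRing.maximalIdeal.isMaximal A
  have h2 := hdim m' hm'A
  rw [IsLocalization.AtPrime.ringKrullDim_eq_height m' (Localization.AtPrime m')] at h2
  have h3 : ((2 : ℕ) : ℕ∞) ≤ m'.height := by
    have h2' : ((2 : ℕ∞) : WithBot ℕ∞) ≤ (m'.height : WithBot ℕ∞) := h2
    exact_mod_cast WithBot.coe_le_coe.1 h2'
  have h4 := le_height_comap_of_isIntegral (R := Algebra.adjoin A {v₁, v₂, e}) 2 m' h3
  rw [hm'q] at h4
  have h5 := le_trans h4 hqht
  norm_num at h5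

end Groth.Agent.Lib.Helper39.PunctInt
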