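import Mathlib

/-!
# helper39: the total ring of fractions of a reduced Noetherian ring and its projections to the
fraction fields of the irreducible components
-/

set_option autoImplicit false
universe u
open Polynomial

namespace Groth.Agent.Lib.Helper39.PunctInt

variable {A : Type u} [CommRing A]

theorem quotient_mk_mem_nonZeroDivisors {p : Ideal A} (hp : p ∈ minimalPrimes A) :
    nonZeroDivisors A ≤ (nonZeroDivisors (A ⧸ p)).comap (Ideal.Quotient.mk p) := by
  haveI : p.IsPrime := hp.1.1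
  intro s hs
  rw [Submonoid.mem_comap]
  apply mem_nonZeroDivisors_of_ne_zero
  rw [Ne, Ideal.Quotient.eq_zero_iff_mem]
  intro hsp
  exact Set.disjoint_left.1 (Ideal.disjoint_nonZeroDivisors_of_mem_minimalPrimes hp) hsp hs

/-- the projection of the total ring of fractions to the fraction field of `A/p`, `p` a minimal
prime. -/
noncomputable def psi (p : Ideal A) (hp : p ∈ minimalPrimes A) :
    FractionRing A →+* FractionRing (A ⧸ p) :=
  IsLocalization.map (FractionRing (A ⧸ p)) (Ideal.Quotient.mk p)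
    (quotient_mk_mem_nonZeroDivisors hp)

theorem psi_algebraMap (p : Ideal A) (hp : p ∈ minimalPrimes A) (a : A) :
    psi p hp (algebraMap A (FractionRing A) a) =
      algebraMap (A ⧸ p) (FractionRing (A ⧸ p)) (Ideal.Quotient.mk p a) :=
  IsLocalization.map_eq _ a

theorem psi_algebraMap' (p : Ideal A) (hp : p ∈ minimalPrimes A) (a : A) :
    psi p hp (algebraMap A (FractionRing A) a) = algebraMap A (FractionRing (A ⧸ p)) a := by
  rw [psi_algebraMap, IsScalarTower.algebraMap_apply A (A ⧸ p) (FractionRing (A ⧸ p))]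
  rfl

theorem psi_comp_algebraMap (p : Ideal A) (hp : p ∈ minimalPrimes A) :
    (psi p hp).comp (algebraMap A (FractionRing A)) = algebraMap A (FractionRing (A ⧸ p)) := by
  ext a
  rw [RingHom.comp_apply, psi_algebraMap']

theorem psi_mk' (p : Ideal A) (hp : p ∈ minimalPrimes A) (a : A) (s : nonZeroDivisors A) :
    psi p hp (IsLocalization.mk' (FractionRing A) a s) =
      IsLocalization.mk' (FractionRing (A ⧸ p)) (Ideal.Quotient.mk p a)
        (⟨Ideal.Quotient.mk p s, quotient_mk_mem_nonZeroDivisors hp s.2⟩ :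
          nonZeroDivisors (A ⧸ p)) :=
  IsLocalization.map_mk' _ a s

theorem eq_zero_of_forall_mem_minimalPrimes [IsReduced A] (t : A)
    (h : ∀ p ∈ minimalPrimes A, t ∈ p) : t = 0 := by
  have hmem : t ∈ sInf (minimalPrimes A) := by
    rw [Submodule.mem_sInf]
    exact h
  have h2 : sInf (minimalPrimes A) = (⊥ : Ideal A).radical := Ideal.sInf_minimalPrimes
  rw [h2] at hmem
  have h3 : t ∈ nilradical A := hmem
  rw [nilradical_eq_zero] at h3
  exact h3

/-- the projections are jointly injective. -/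
theorem eq_zero_of_forall_psi [IsReduced A] (v : FractionRing A)
    (h : ∀ (p : Ideal A) (hp : p ∈ minimalPrimes A), psi p hp v = 0) : v = 0 := by
  obtain ⟨a, s, rfl⟩ := IsLocalization.exists_mk'_eq (nonZeroDivisors A) v
  have ha : a = 0 := by
    apply eq_zero_of_forall_mem_minimalPrimes
    intro p hp
    haveI : p.IsPrime := hp.1.1
    have := h p hp
    rw [psi_mk', IsFractionRing.mk'_eq_zero_iff_eq_zero, Ideal.Quotient.eq_zero_iff_mem] at this
    exact this
  rw [ha, IsLocalization.mk'_zero]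

/-- integrality can be checked component by component. -/
theorem isIntegral_of_forall_psi [IsNoetherianRing A] [IsReduced A] (v : FractionRing A)
    (h : ∀ (p : Ideal A) (hp : p ∈ minimalPrimes A), IsIntegral A (psi p hp v)) :
    IsIntegral A v := by
  classical
  have hfin := minimalPrimes.finite_of_isNoetherianRing A
  have h' : ∀ p : Ideal A, ∃ f : A[X], f.Monic ∧ (∀ hp : p ∈ minimalPrimes A,
      eval₂ (algebraMap A (FractionRing (A ⧸ p))) (psi p hp v) f = 0) := by
    intro p
    by_cases hp : p ∈ minimalPrimes A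
    · obtain ⟨f, hf, hf0⟩ := h p hp
      exact ⟨f, hf, fun _ => hf0⟩
    · exact ⟨1, monic_one, fun h => absurd h hp⟩
  choose f hfm hf0 using h'
  refine ⟨∏ p ∈ hfin.toFinset, f p, monic_prod_of_monic _ _ (fun p _ => hfm p), ?_⟩
  apply eq_zero_of_forall_psi
  intro p hp
  rw [Polynomial.hom_eval₂, Polynomial.eval₂_finsetProd]
  apply Finset.prod_eq_zero (hfin.mem_toFinset.2 hp)
  rw [psi_comp_algebraMap]
  exact hf0 p hp

theorem exists_avoid [IsNoetherianRing A] (p : Ideal A) (hp : p ∈ minimalPrimes A) :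
    ∃ c c' : A, c ∉ p ∧ c' ∈ p ∧ ∀ p' ∈ minimalPrimes A, p' ≠ p → (c ∈ p' ∧ c' ∉ p') := by
  classical
  haveI hpp : p.IsPrime := hp.1.1
  have hfin := minimalPrimes.finite_of_isNoetherianRing A
  let T : Finset (Ideal A) := hfin.toFinset.erase p
  have hT : ∀ p', p' ∈ T ↔ p' ∈ minimalPrimes A ∧ p' ≠ p := by
    intro p'
    rw [Finset.mem_erase, hfin.mem_toFinset]
    tauto
  have hc : ∃ c : A, c ∉ p ∧ ∀ p' ∈ T, c ∈ p' := by
    by_contra hcon
    push Not at hcon
    have hle : T.inf id ≤ p := by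
      intro c hcT
      rw [Submodule.mem_finsetInf] at hcT
      by_contra hcp
      obtain ⟨p', hp'T, hcp'⟩ := hcon c hcp
      exact hcp' (hcT p' hp'T)
    obtain ⟨p', hp'T, hp'le⟩ := (Ideal.IsPrime.inf_le' hpp).1 hle
    obtain ⟨hp'min, hne⟩ := (hT p').1 hp'T
    exact hne (le_antisymm hp'le (hp.2 hp'min.1 hp'le))
  have hc' : ∃ c' : A, c' ∈ p ∧ ∀ p' ∈ T, c' ∉ p' := by
    by_contra hcon
    push Not at hcon
    have hsub : (p : Set A) ⊆ ⋃ i ∈ (T : Set (Ideal A)), (id i : Ideal A) := by
      intro c' hc'p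
      obtain ⟨p', hp'T, hc'p'⟩ := hcon c' hc'p
      exact Set.mem_biUnion hp'T hc'p'
    obtain ⟨p', hp'T, hle⟩ := (Ideal.subset_union_prime (f := id) p p
      (fun i hi _ _ => ((hT i).1 hi).1.1.1)).1 hsub
    obtain ⟨hp'min, hne⟩ := (hT p').1 hp'T
    exact hne (le_antisymm (hp'min.2 hp.1 hle) hle)
  obtain ⟨c, hcp, hcT⟩ := hc
  obtain ⟨c', hc'p, hc'T⟩ := hc'
  exact ⟨c, c', hcp, hc'p, fun p' hp' hne =>
    ⟨hcT p' ((hT p').2 ⟨hp', hne⟩), hc'T p' ((hT p').2 ⟨hp', hne⟩)⟩⟩

/-- lifting an element of the fraction field of a component to the total ring of fractions,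
with zero components elsewhere. -/
theorem exists_lift [IsNoetherianRing A] [IsReduced A] (p : Ideal A) (hp : p ∈ minimalPrimes A)
    (u : FractionRing (A ⧸ p)) :
    ∃ v : FractionRing A, psi p hp v = u ∧
      ∀ (p' : Ideal A) (hp' : p' ∈ minimalPrimes A), p' ≠ p → psi p' hp' v = 0 := by
  haveI hpp : p.IsPrime := hp.1.1
  obtain ⟨c, c', hcp, hc'p, hcc⟩ := exists_avoid p hp
  obtain ⟨x, y, rfl⟩ := IsLocalization.exists_mk'_eq (nonZeroDivisors (A ⧸ p)) u
  obtain ⟨a, rfl⟩ := Ideal.Quotient.mk_surjective x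
  obtain ⟨s, hs⟩ := Ideal.Quotient.mk_surjective y.1
  have hsp : s ∉ p := by
    intro hsp
    have h0 : (y : A ⧸ p) = 0 := by rw [← hs, Ideal.Quotient.eq_zero_iff_mem]; exact hsp
    exact nonZeroDivisors.ne_zero y.2 h0
  have hs₁ : s * c + c' ∈ nonZeroDivisors A := by
    rw [mem_nonZeroDivisors_iff_right]
    intro t ht
    apply eq_zero_of_forall_mem_minimalPrimes
    intro p'' hp''
    haveI : p''.IsPrime := hp''.1.1
    have hmem : t * (s * c + c') ∈ p'' := by rw [ht]; exact p''.zero_mem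
    rcases (Ideal.IsPrime.mem_or_mem ‹_› hmem) with h | h
    · exact h
    · exfalso
      by_cases hpe : p'' = p
      · subst hpe
        have h2 : s * c ∈ p'' := by
          have := p''.sub_mem h hc'p
          simpa using this
        rcases (Ideal.IsPrime.mem_or_mem ‹_› h2) with h3 | h3
        · exact hsp h3
        · exact hcp h3
      · obtain ⟨h3, h4⟩ := hcc p'' hp'' hpe
        apply h4
        have := p''.sub_mem h (p''.mul_mem_left s h3)
        simpa using this
  refine ⟨IsLocalization.mk' (FractionRing A) (a * c) ⟨s * c + c', hs₁⟩, ?_, ?_⟩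
  · rw [psi_mk', IsLocalization.mk'_eq_iff_eq]
    congr 1
    have h1 : Ideal.Quotient.mk p (s * c + c') = Ideal.Quotient.mk p (s * c) := by
      rw [map_add, Ideal.Quotient.eq_zero_iff_mem.2 hc'p, add_zero]
    change (y : A ⧸ p) * Ideal.Quotient.mk p (a * c) =
      Ideal.Quotient.mk p (s * c + c') * Ideal.Quotient.mk p a
    rw [h1, ← hs, ← map_mul, ← map_mul]
    congr 1
    ring
  · intro p' hp' hne
    haveI : p'.IsPrime := hp'.1.1
    rw [psi_mk']
    have h1 : Ideal.Quotient.mk p' (a * c) = 0 := by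
      rw [Ideal.Quotient.eq_zero_iff_mem]
      exact p'.mul_mem_left a (hcc p' hp' hne).1
    rw [h1, IsLocalization.mk'_zero]

end Groth.Agent.Lib.Helper39.PunctInt
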