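import Groth.Agent.Lib.Helper39.PunctInt.Main
import Groth.Agent.Lib.Helper39.PushCompl.Transform
import Groth.Agent.Lib.Helper64.PuncturedSpec
import Groth.Prelude.Def_FEt

/-!
Sections of the structure sheaf over the punctured spectrum of a reduced Noetherian local ring
embed into the total ring of fractions; under the dimension hypothesis on the integral closure
they are integral.
-/

set_option autoImplicit false
universe u

namespace Groth.Agent.Lib.Helper39.PunctInt

open AlgebraicGeometry StructureSheaf TopologicalSpace Opposite CategoryTheory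
open Groth.Agent.Lib.Helper48

/-- An `A`-algebra `S` containing `A`, on which nonzerodivisors of `A` stay nonzerodivisors and in
which every element becomes an element of `A` after multiplication by a nonzerodivisor of `A`,
embeds into the total ring of fractions of `A`. -/
theorem exists_embedding (A S : Type u) [CommRing A] [CommRing S] [Algebra A S]
    (hinj : Function.Injective (algebraMap A S))
    (hreg : ∀ a ∈ nonZeroDivisors A, algebraMap A S a ∈ nonZeroDivisors S)
    (hfrac : ∀ s : S, ∃ a ∈ nonZeroDivisors A, ∃ b : A,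
      algebraMap A S a * s = algebraMap A S b) :
    ∃ φ : S →+* FractionRing A, Function.Injective φ ∧
      φ.comp (algebraMap A S) = algebraMap A (FractionRing A) := by
  classical
  let M := nonZeroDivisors A
  let T : Submonoid S := M.map (algebraMap A S)
  have hT : T ≤ nonZeroDivisors S := by
    rintro _ ⟨a, ha, rfl⟩
    exact hreg a ha
  let SM := Localization T
  let g : FractionRing A →+* SM := IsLocalization.map SM (algebraMap A S) (M := M) (T := T)
    M.le_comap_map
  have hg_inj : Function.Injective g :=
    IsLocalization.map_injective_of_injective M (FractionRing A) SM hinj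
  have hg_surj : Function.Surjective g := by
    intro z
    obtain ⟨s, ⟨_, m, hm, rfl⟩, rfl⟩ := IsLocalization.exists_mk'_eq T z
    obtain ⟨a, ha, b, hab⟩ := hfrac s
    refine ⟨IsLocalization.mk' (FractionRing A) b (⟨a * m, mul_mem ha hm⟩ : M), ?_⟩
    rw [IsLocalization.map_mk', IsLocalization.mk'_eq_iff_eq]
    simp only [map_mul]
    rw [← hab, map_mul]
    ring
  let e := RingEquiv.ofBijective g ⟨hg_inj, hg_surj⟩
  refine ⟨(e.symm : SM →+* FractionRing A).comp (algebraMap S SM), ?_, ?_⟩
  · exact e.symm.injective.comp (IsLocalization.injective SM hT)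
  · ext a
    simp only [RingHom.coe_comp, Function.comp_apply, RingHom.coe_coe]
    rw [RingEquiv.symm_apply_eq]
    exact (IsLocalization.map_eq (S := FractionRing A) (Q := SM) M.le_comap_map a).symm

variable (A : Type u) [CommRing A] [IsLocalRing A]

/-- The punctured spectrum, as an open subset of the prime spectrum. -/
def punct : Opens (PrimeSpectrum.Top A) :=
  ⟨({IsLocalRing.closedPoint A}ᶜ : Set (PrimeSpectrum A)),
    (IsLocalRing.isClosed_singleton_closedPoint (R := A)).isOpen_compl⟩

theorem mem_puncturedSpec_iff (x : PrimeSpectrum A) :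
    x ∈ punct A ↔ ¬ IsLocalRing.maximalIdeal A ≤ x.asIdeal := by
  change x ∉ ({IsLocalRing.closedPoint A} : Set (PrimeSpectrum A)) ↔ _
  rw [Set.mem_singleton_iff]
  constructor
  · intro hx hle
    apply hx
    apply PrimeSpectrum.ext
    exact ((IsLocalRing.maximalIdeal.isMaximal A).eq_of_le x.2.ne_top hle).symm
  · intro hx hxe
    apply hx
    rw [hxe]
    exact le_rfl

variable [IsNoetherianRing A] [IsReduced A]

theorem maximalIdeal_not_mem_minimalPrimes
    (hdim : ∀ (m' : Ideal ↥(integralClosure A (FractionRing A))) [m'.IsMaximal],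
      m'.comap (algebraMap A ↥(integralClosure A (FractionRing A))) = IsLocalRing.maximalIdeal A →
        2 ≤ ringKrullDim (Localization.AtPrime m')) :
    IsLocalRing.maximalIdeal A ∉ minimalPrimes A := by
  intro hmin
  have h0 : (IsLocalRing.maximalIdeal A).height = 0 := Ideal.height_eq_zero_iff.mpr hmin
  have hinj : Function.Injective (algebraMap A ↥(integralClosure A (FractionRing A))) := by
    intro a b hab
    have := congrArg Subtype.val hab
    exact IsFractionRing.injective A (FractionRing A) this
  obtain ⟨m', -, hm'prime, hm'A⟩ := Ideal.exists_ideal_over_prime_of_isIntegral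
    (IsLocalRing.maximalIdeal A)
    (⊥ : Ideal ↥(integralClosure A (FractionRing A))) (by
      intro c hc
      rw [Ideal.mem_comap, Ideal.mem_bot] at hc
      rw [(map_eq_zero_iff _ hinj).1 hc]
      exact Ideal.zero_mem _)
  haveI hm'max : m'.IsMaximal := by
    apply Ideal.isMaximal_of_isIntegral_of_isMaximal_comap (R := A) m'
    rw [hm'A]
    exact IsLocalRing.maximalIdeal.isMaximal A
  have h2 := hdim m' hm'A
  rw [IsLocalization.AtPrime.ringKrullDim_eq_height m' (Localization.AtPrime m')] at h2
  have h3 : ((2 : ℕ) : ℕ∞) ≤ m'.height := by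
    have h2' : ((2 : ℕ∞) : WithBot ℕ∞) ≤ (m'.height : WithBot ℕ∞) := h2
    exact_mod_cast WithBot.coe_le_coe.1 h2'
  have h4 := le_height_comap_of_isIntegral (R := A) 2 m' h3
  rw [hm'A, h0] at h4
  norm_num at h4

omit [IsLocalRing A] [IsNoetherianRing A] [IsReduced A] in
/-- Nonzerodivisors of `A` act injectively on every localization of `A` at a prime. -/
theorem smul_localizations_eq_zero (a : A) (ha : a ∈ nonZeroDivisors A)
    (x : PrimeSpectrum.Top A) (z : Localizations A x) (h : a • z = 0) : z = 0 := by
  induction z using LocalizedModule.induction_on with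
  | h m s =>
    rw [LocalizedModule.smul'_mk, ← LocalizedModule.zero_mk s, LocalizedModule.mk_eq] at h
    obtain ⟨c, hc⟩ := h
    rw [← LocalizedModule.zero_mk s, LocalizedModule.mk_eq]
    refine ⟨c, ?_⟩
    simp only [smul_zero, Submonoid.smul_def, smul_eq_mul] at hc ⊢
    have h1 : c.1 * s.1 * m * a = 0 := by
      have : c.1 * s.1 * m * a = c.1 * (s.1 * (a * m)) := by ring
      rw [this, hc]
    have h2 := (mul_right_mem_nonZeroDivisors_eq_zero_iff ha).1 h1
    rw [mul_assoc] at h2
    exact h2

/-- The ring of sections over the punctured spectrum embeds into the integral closure of `A`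
in its total ring of fractions, and is integral over `A`. -/
theorem sections_main
    (hdim : ∀ (m' : Ideal ↥(integralClosure A (FractionRing A))) [m'.IsMaximal],
      m'.comap (algebraMap A ↥(integralClosure A (FractionRing A))) = IsLocalRing.maximalIdeal A →
        2 ≤ ringKrullDim (Localization.AtPrime m')) :
    (algebraMap A (Sec A A (punct A))).IsIntegral ∧
      ∃ φ : Sec A A (punct A) →+* ↥(integralClosure A (FractionRing A)),
        Function.Injective φ ∧
          φ.comp (algebraMap A (Sec A A (punct A))) =
            algebraMap A ↥(integralClosure A (FractionRing A)) := by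
  classical
  have hU := mem_puncturedSpec_iff A
  have hm := maximalIdeal_not_mem_minimalPrimes A hdim
  obtain ⟨x₀, hx₀m, hx₀⟩ :=
    Groth.Agent.Lib.Helper64.PuncturedAffine.exists_mem_maximalIdeal_nonZeroDivisor A hm
  have halg : ∀ a, algebraMap A (Sec A A (punct A)) a =
      toOpenₗ A A (punct A) a := fun a => rfl
  have hsmul : ∀ (b : A) (s : Sec A A (punct A)),
      algebraMap A (Sec A A (punct A)) b * s = b • s :=
    fun b s => (Algebra.smul_def b s).symm
  have hinj : Function.Injective (algebraMap A (Sec A A (punct A))) := by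
    rw [injective_iff_map_eq_zero]
    intro a ha
    obtain ⟨n, hn⟩ := (toOpenₗ_eq_zero_iff (punct A) _ hU a).1 ha
    have h1 := hn (x₀ ^ n) (Ideal.pow_mem_pow hx₀m n)
    rw [smul_eq_mul, mul_comm] at h1
    exact (mul_right_mem_nonZeroDivisors_eq_zero_iff (pow_mem hx₀ n)).1 h1
  have hreg : ∀ a ∈ nonZeroDivisors A,
      algebraMap A (Sec A A (punct A)) a ∈
        nonZeroDivisors (Sec A A (punct A)) := by
    intro a ha
    rw [mem_nonZeroDivisors_iff_right]
    intro s hs
    rw [mul_comm, hsmul] at hs
    apply section_ext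
    intro x
    apply smul_localizations_eq_zero A a ha x.1
    have h1 : (a • s).1 x = a • s.1 x := structureSheafInType.smul_apply _ _ _
    have h2 : (a • s).1 x = 0 := by rw [hs]; rfl
    exact h1.symm.trans h2
  have hfrac : ∀ s : Sec A A (punct A), ∃ a ∈ nonZeroDivisors A, ∃ b : A,
      algebraMap A (Sec A A (punct A)) a * s =
        algebraMap A (Sec A A (punct A)) b := by
    intro s
    obtain ⟨n, hn⟩ := exists_pow_smul_mem_range (punct A) _ hU s
    obtain ⟨b, hb⟩ := hn (x₀ ^ n) (Ideal.pow_mem_pow hx₀m n)
    exact ⟨x₀ ^ n, pow_mem hx₀ n, b, (hsmul _ _).trans hb.symm⟩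
  obtain ⟨φ₀, hφ₀inj, hφ₀⟩ :=
    exists_embedding A (Sec A A (punct A)) hinj hreg hfrac
  have hφ₀' : ∀ a, φ₀ (algebraMap A (Sec A A (punct A)) a) =
      algebraMap A (FractionRing A) a := fun a => RingHom.congr_fun hφ₀ a
  have hint : ∀ s, IsIntegral A (φ₀ s) := by
    intro s
    obtain ⟨n, hn⟩ := exists_pow_smul_mem_range (punct A) _ hU s
    apply isIntegral_of_pow_mul_mem A hdim (φ₀ s) n
    intro b hb
    obtain ⟨a, ha⟩ := hn b hb
    refine ⟨a, ?_⟩
    have h1 : algebraMap A (Sec A A (punct A)) a = algebraMap A (Sec A A (punct A)) b * s :=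
      ha.trans (hsmul b s).symm
    rw [← hφ₀', ← hφ₀', ← map_mul, h1]
  refine ⟨?_, φ₀.codRestrict (integralClosure A (FractionRing A)) hint, ?_, ?_⟩
  · intro s
    obtain ⟨p, hp, hp0⟩ := hint s
    refine ⟨p, hp, ?_⟩
    apply hφ₀inj
    rw [map_zero, Polynomial.hom_eval₂, hφ₀]
    exact hp0
  · intro s t hst
    apply hφ₀inj
    exact congrArg Subtype.val hst
  · ext a
    exact hφ₀' a

end Groth.Agent.Lib.Helper39.PunctInt
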